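import Groth.Agent.Lib.TorPts21.Luna
import Groth.Agent.Lib.TorPts21.UnipPart
import Groth.Agent.Lib.TorPts21.Sub
import Groth.Agent.Lib.BorelFix21.Pts
import Groth.Agent.Lib.InvRing21.Semi
import Groth.Agent.Lib.OrbitDim19.Basic
import Groth.Agent.Lib.NRQ21.Restrict
import Groth.Agent.Lib.GITSS15.Data

/-!
# The theorem of Kostant and Rosenlicht

Orbits of a connected group without subtori on an affine scheme are closed; hence good quotients by
such groups have orbits as fibres.
-/

set_option autoImplicit false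
set_option linter.style.haveILetI false
set_option maxSynthPendingDepth 3
set_option synthInstance.maxHeartbeats 400000
set_option backward.isDefEq.respectTransparency false
set_option backward.isDefEq.respectTransparency.types false

universe u

open CategoryTheory Limits MonoidalCategory CartesianMonoidalCategory MonObj GrpObj AlgebraicGeometry
open scoped TensorProduct

noncomputable section

namespace Groth.Agent.KRos15

open InvRing21 TorPts21

attribute [local instance] InvRing21.gamAlg BorelFix21.ptsTop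

variable {k : Type u} [Field k] [IsAlgClosed k] {G X : Over (Spec (CommRingCat.of k))} [GrpObj G]

local notation "kp" => VecGrp.pt k k

/-- **Kostant–Rosenlicht.** -/
theorem isClosed_orbit [IsAffine G.left] [Smooth G.hom] [ConnectedSpace G.left] (hG : Red.HasNoSubtorus k G)
    [IsAffine X.left] [LocallyOfFiniteType X.hom] (a : AlgGrp.Action G X)
    (x : 𝟙_ (Over (Spec (CommRingCat.of k))) ⟶ X) :
    IsClosed (Set.range (a.orbitMap x).left) := by
  haveI : QuasiCompact X.hom := inferInstance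
  haveI : LocallyOfFiniteType G.hom := inferInstance
  haveI : QuasiCompact G.hom := inferInstance
  set O := Set.range (a.orbitMap x).left with hO
  set Bd := closure O \ O with hBd
  have hBc : IsClosed Bd := OrbitDim19.isClosed_boundary a x
  rcases Bd.eq_empty_or_nonempty with hB | hB
  · exact closure_subset_iff_isClosed.1 (Set.diff_eq_empty.1 hB)
  exfalso
  obtain ⟨z₀, hz₀⟩ := BorelFix21.exists_pt_mem hBc.isLocallyClosed hB
  let x' : kp ⟶ X := toUnit kp ≫ x
  have hstab : ∀ (c : kp ⟶ G) (z : kp ⟶ X), InvRing21.img z ∈ Bd → InvRing21.img (lift c z ≫ a.act) ∈ Bd := by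
    intro c z hz
    obtain ⟨y, rfl⟩ : ∃ y : 𝟙_ (Over (Spec (CommRingCat.of k))) ⟶ X, toUnit kp ≫ y = z := by
      obtain ⟨y, hy⟩ := TorPts21.exists_gpt z
      refine ⟨y, ?_⟩
      rw [← hy]
      rfl
    have h1 : (a.orbitMap y).left (InvRing21.img c) = InvRing21.img (lift c (toUnit kp ≫ y) ≫ a.act) := by
      rw [← AlgGrp.Action.comp_orbitMap]
      rfl
    rw [← h1]
    refine OrbitDim19.range_subset_boundary a x y ?_ ⟨_, rfl⟩
    have h2 : InvRing21.img (toUnit kp ≫ y) = y.left (IsLocalRing.closedPoint k) := by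
      show (toUnit kp ≫ y).left (IsLocalRing.closedPoint k) = _
      rw [Over.comp_left, Scheme.Hom.comp_apply]
      exact congrArg _ (Subsingleton.elim (α := Spec (CommRingCat.of k)) _ _)
    rw [← h2]
    exact hz
  -- the functions vanishing on the boundary
  let WB : Submodule k Γ(X.left, ⊤) :=
    { carrier := {f | ∀ z : kp ⟶ X, InvRing21.img z ∈ Bd → InvRing21.val z f = 0}
      add_mem' := fun hf hg z hz => by rw [map_add, hf z hz, hg z hz, add_zero]
      zero_mem' := fun z _ => map_zero _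
      smul_mem' := fun c f hf z hz => by rw [map_smul, hf z hz, smul_zero] }
  have hx'B : InvRing21.img x' ∉ Bd := by
    intro hh
    refine hh.2 ?_
    have h2 : (a.orbitMap x).left (InvRing21.img (1 : kp ⟶ G)) = InvRing21.img x' := by
      show (((1 : kp ⟶ G)) ≫ a.orbitMap x).left (IsLocalRing.closedPoint k) = _
      rw [AlgGrp.Action.comp_orbitMap, AlgGrpBasic19.act_one]
    exact ⟨_, h2⟩
  obtain ⟨f, hfB, hfx⟩ := (isAffineOpen_top X.left).exists_basicOpen_le (V := ⟨Bdᶜ, hBc.isOpen_compl⟩)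
    ⟨InvRing21.img x', hx'B⟩ trivial
  have hfW : f ∈ WB := fun z hz => by
    by_contra hne
    exact hfB ((BorelFix21.val_ne_zero_iff z f).1 hne) hz
  have hfx' : InvRing21.val x' f ≠ 0 := (BorelFix21.val_ne_zero_iff x' f).2 hfx
  -- pull back along the inverse orbit map
  let ob : G ⟶ X := (𝟙 G)⁻¹ ≫ a.orbitMap x
  have hob : ∀ h : kp ⟶ G, h ≫ ob = lift h⁻¹ x' ≫ a.act := fun h => by
    show h ≫ (𝟙 G)⁻¹ ≫ a.orbitMap x = _
    rw [← Category.assoc, GrpObj.comp_inv, Category.comp_id, AlgGrp.Action.comp_orbitMap]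
  let W : Submodule k Γ(G.left, ⊤) := WB.map (InvRing21.appAlg ob).toLinearMap
  have hWtr : ∀ (g : kp ⟶ G), ∀ w ∈ W, (InvRing21.rTr g).left.appTop w ∈ W := by
    rintro g _ ⟨f', hf', rfl⟩
    let tc : X ⟶ X := lift (InvRing21.toPt X ≫ g⁻¹) (𝟙 X) ≫ a.act
    have htc : ∀ z : kp ⟶ X, z ≫ tc = lift g⁻¹ z ≫ a.act := fun z => by
      show z ≫ lift (InvRing21.toPt X ≫ g⁻¹) (𝟙 X) ≫ a.act = _
      rw [comp_lift_assoc, Category.comp_id, ← Category.assoc z, InvRing21.comp_toPt, InvRing21.toPt_pt,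
        Category.id_comp]
    refine ⟨InvRing21.appAlg tc f', fun z hz => ?_, InvRing21.ext_val fun h => ?_⟩
    · show InvRing21.val z (tc.left.appTop f') = 0
      rw [InvRing21.appTop_val, htc]
      exact hf' _ (hstab _ z hz)
    · show InvRing21.val h (ob.left.appTop (tc.left.appTop f')) =
        InvRing21.val h ((InvRing21.rTr g).left.appTop (ob.left.appTop f'))
      rw [InvRing21.val_rTr, InvRing21.appTop_val, InvRing21.appTop_val, InvRing21.appTop_val, htc, hob, hob,
        _root_.mul_inv_rev, AlgGrpBasic19.act_mul]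
  obtain ⟨W₀, hW₀f, hfW₀, hW₀⟩ := InvRing21.exists_stable_span (InvRing21.regular G) {ob.left.appTop f}
  haveI := hW₀f
  have hW₀tr : ∀ (g : kp ⟶ G), ∀ w ∈ W₀, (InvRing21.rTr g).left.appTop w ∈ W₀ := by
    intro g w hw
    obtain ⟨n, c, u, hu, e⟩ := hW₀ w hw k g
    have : (InvRing21.rTr g).left.appTop w = ∑ i, c i • u i := InvRing21.ext_val fun h => by
      rw [InvRing21.val_rTr, InvRing21.val_mul_eq, e, map_sum, map_sum]
      refine Finset.sum_congr rfl fun i _ => ?_
      rw [Algebra.TensorProduct.lift_tmul, map_smul, smul_eq_mul]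
      rfl
    rw [this]
    exact W₀.sum_mem fun i _ => W₀.smul_mem _ (hu i)
  haveI : FiniteDimensional k (W₀ ⊓ W : Submodule k Γ(G.left, ⊤)) := Submodule.finiteDimensional_inf_left _ _
  have hne : W₀ ⊓ W ≠ ⊥ := by
    intro hbot
    have h1 : ob.left.appTop f ∈ W₀ ⊓ W :=
      ⟨hfW₀ _ (Finset.mem_singleton_self _), ⟨f, hfW, rfl⟩⟩
    rw [hbot, Submodule.mem_bot] at h1
    refine hfx' ?_
    have h2 := congrArg (InvRing21.val (1 : kp ⟶ G)) h1
    rw [InvRing21.appTop_val, hob, inv_one, AlgGrpBasic19.act_one, map_zero] at h2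
    exact h2
  haveI : Group.IsSolvable (kp ⟶ G) :=
    (Group.isSolvable_def _).2 ⟨(TorPts21.isSolvableGrp_of_hasNoSubtorus G hG).choose,
      (TorPts21.isSolvableGrp_of_hasNoSubtorus G hG).choose_spec _⟩
  obtain ⟨φ, ⟨-, f₀, hf₀, hφf⟩, hφ0, heig⟩ :=
    BorelFix21.exists_eigenfunction (W₀ ⊓ W) hne fun g w hw => ⟨hW₀tr g w hw.1, hWtr g w hw.2⟩
  choose c hc using heig
  have h1ne : InvRing21.val (1 : kp ⟶ G) φ ≠ 0 := by
    obtain ⟨h₀, hh₀⟩ := InvRing21.exists_val_ne_zero hφ0
    intro h0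
    refine hh₀ ?_
    have := hc h₀ 1
    rwa [_root_.one_mul, h0, mul_zero] at this
  set φ1 := InvRing21.val (1 : kp ⟶ G) φ
  have hval : ∀ g : kp ⟶ G, InvRing21.val g φ = c g * φ1 := fun g => by
    have := hc g 1
    rwa [_root_.one_mul] at this
  have hcm : ∀ g g' : kp ⟶ G, c (g * g') = c g * c g' := fun g g' => by
    refine mul_right_cancel₀ h1ne ?_
    rw [← hval, hc, hval]
    ring
  have hc1 : c 1 = 1 := mul_right_cancel₀ h1ne (by rw [← hval, _root_.one_mul])
  have hcne : ∀ g : kp ⟶ G, c g ≠ 0 := fun g h0 => by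
    have := hcm g g⁻¹
    rw [mul_inv_cancel, hc1, h0, zero_mul] at this
    exact one_ne_zero this
  have hF : ∀ g : kp ⟶ G, InvRing21.val g (φ1⁻¹ • φ) = c g := fun g => by
    rw [map_smul, hval, smul_eq_mul]
    field_simp
  have hcone : ∀ g : kp ⟶ G, c g = 1 := fun g => by
    rw [← hF]
    exact TorPts21.eq_one_of_char hG _ (fun g g' => by rw [hF, hF, hF, hcm]) (fun g => by rw [hF]; exact hcne g) g
  -- `f₀` is a nonzero constant on the orbit and vanishes on the boundary
  let D := X.left.basicOpen (f₀ - algebraMap k _ φ1)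
  have hzD : InvRing21.img z₀ ∈ D := by
    refine (BorelFix21.val_ne_zero_iff z₀ _).1 ?_
    rw [map_sub, AlgHom.commutes, hf₀ z₀ hz₀, Algebra.algebraMap_self, RingHom.id_apply, zero_sub, neg_ne_zero]
    exact h1ne
  obtain ⟨p, hpD, g₀, rfl⟩ := mem_closure_iff.1 hz₀.1 (D : Set X.left) D.isOpen hzD
  obtain ⟨g, hg⟩ := BorelFix21.exists_pt_mem
    (D.isOpen.preimage (a.orbitMap x).left.continuous).isLocallyClosed ⟨g₀, hpD⟩
  have hgD : InvRing21.img (g ≫ a.orbitMap x) ∈ D := hg
  refine (BorelFix21.val_ne_zero_iff _ _).2 hgD ?_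
  have e : g ≫ a.orbitMap x = g⁻¹ ≫ ob := by
    rw [hob, _root_.inv_inv, AlgGrp.Action.comp_orbitMap]
  have h3 : InvRing21.val (g⁻¹ ≫ ob) f₀ = InvRing21.val g⁻¹ φ := by
    rw [← hφf, ← InvRing21.appTop_val]
    rfl
  rw [e, map_sub, AlgHom.commutes, h3, hval, hcone, _root_.one_mul, Algebra.algebraMap_self, RingHom.id_apply, sub_self]

/-- A good quotient by a connected group without subtori has orbits as fibres, on rational points. -/
theorem exists_act_eq {Y : Over (Spec (CommRingCat.of k))} [IsAffine G.left] [Smooth G.hom] [ConnectedSpace G.left]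
    (hG : Red.HasNoSubtorus k G) [LocallyOfFiniteType X.hom] {a : AlgGrp.Action G X} {φ : X ⟶ Y}
    (h : NRQuot.IsGoodQuot a φ)
    (x₁ x₂ : 𝟙_ (Over (Spec (CommRingCat.of k))) ⟶ X) (hφ : x₁ ≫ φ = x₂ ≫ φ) :
    ∃ g : 𝟙_ (Over (Spec (CommRingCat.of k))) ⟶ G, lift g x₁ ≫ a.act = x₂ := by
  haveI := h.affine
  have hcl : ∀ x : 𝟙_ (Over (Spec (CommRingCat.of k))) ⟶ X, IsClosed (NRQ21.orb a x) := by
    intro x
    set y := φ.left (NRQ21.img x) with hy
    have hyc : IsClosed ({y} : Set Y.left) := by rw [hy, ← NRQ21.img_comp]; exact NRQ21.isClosed_img _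
    obtain ⟨V, hV, hyV, -⟩ := exists_isAffineOpen_mem_and_subset (U := ⊤) (x := y) trivial
    let U : X.left.Opens := φ.left ⁻¹ᵁ V
    have hUe : a.act.left ⁻¹ᵁ U = (snd G X).left ⁻¹ᵁ U := by
      show a.act.left ⁻¹ᵁ (φ.left ⁻¹ᵁ V) = (snd G X).left ⁻¹ᵁ (φ.left ⁻¹ᵁ V)
      rw [← Scheme.Hom.comp_preimage, ← Scheme.Hom.comp_preimage, ← Over.comp_left, ← Over.comp_left]
      exact congrArg (fun m : G ⊗ X ⟶ Y => m.left ⁻¹ᵁ V) h.inv
    obtain ⟨aU, haU⟩ := GITSS15.exists_restrict a U hUe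
    let jU : Over.mk (U.ι ≫ X.hom) ⟶ X := Over.homMk U.ι rfl
    haveI : IsAffine (Over.mk (U.ι ≫ X.hom)).left := hV.preimage φ.left
    haveI : LocallyOfFiniteType (Over.mk (U.ι ≫ X.hom)).hom :=
      inferInstanceAs (LocallyOfFiniteType (U.ι ≫ X.hom))
    have hxU : NRQ21.img x ∈ U := hyV
    haveI : AlgebraicGeometry.IsReduced (𝟙_ (Over (Spec (CommRingCat.of k)))).left :=
      inferInstanceAs (AlgebraicGeometry.IsReduced (Spec (CommRingCat.of k)))
    have hxr : Set.range x.left ⊆ Set.range U.ι := by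
      rw [Scheme.Opens.range_ι]
      exact (NRQ21.range_eq x).trans_subset (Set.singleton_subset_iff.2 hxU)
    let xs := IsOpenImmersion.lift U.ι x.left hxr
    have hxs : xs ≫ U.ι = x.left := IsOpenImmersion.lift_fac _ _ _
    let xU : 𝟙_ (Over (Spec (CommRingCat.of k))) ⟶ Over.mk (U.ι ≫ X.hom) :=
      Over.homMk xs (by
        show xs ≫ U.ι ≫ X.hom = _
        rw [reassoc_of% hxs]
        exact Over.w x)
    have hxU' : xU ≫ jU = x := Over.OverMorphism.ext hxs
    have horb : aU.orbitMap xU ≫ jU = a.orbitMap x := by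
      rw [AlgGrp.Action.orbitMap, AlgGrp.Action.orbitMap, Category.assoc, haU, lift_whiskerLeft_assoc,
        Category.assoc, hxU']
    have hcU := isClosed_orbit hG aU xU
    have hr : NRQ21.orb a x = U.ι '' Set.range (aU.orbitMap xU).left := by
      show Set.range (a.orbitMap x).left = _
      rw [← horb, ← Set.range_comp]
      rfl
    rw [← closure_subset_iff_isClosed]
    intro p hp
    have hpU : p ∈ U := by
      have := Set.mem_singleton_iff.1 (NRQ21.image_closure_orb h.inv x hp)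
      show φ.left p ∈ V
      rw [this]
      exact hyV
    obtain ⟨q, rfl⟩ : p ∈ Set.range U.ι := by rw [Scheme.Opens.range_ι]; exact hpU
    rw [hr] at hp ⊢
    refine ⟨q, ?_, rfl⟩
    rw [← hcU.closure_eq, U.ι.isOpenEmbedding.isInducing.closure_eq_preimage_closure_image]
    exact hp
  exact NRQ21.exists_act_eq_of_closed h (hcl x₁) (hcl x₂) hφ

end Groth.Agent.KRos15
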